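/-
Morphisms constant on a hyperplane section are constant.
-/
import Groth.Agent.L26.BertiniGen.Section
import Groth.Agent.L07.RefExtend.Basic
import Groth.Agent.L08.Albanese.AbSub
import Mathlib.AlgebraicGeometry.Morphisms.QuasiFinite
import Mathlib.AlgebraicGeometry.Morphisms.Finite

/-!
# Rigidity along ample sections

A proper morphism from a smooth variety of dimension at least two which is constant on a subset with affine
complement is constant: the functions on a neighbourhood of the subset are constants by Hartogs.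
-/

set_option autoImplicit false
set_option linter.style.haveILetI false
set_option backward.isDefEq.respectTransparency false
set_option backward.isDefEq.respectTransparency.types false

universe u

open CategoryTheory CategoryTheory.Limits AlgebraicGeometry TopologicalSpace Opposite

noncomputable section

namespace Groth.Agent.BertiniGen

variable {k : Type u} [Field k] {X : Scheme.{u}} [X.Over (Spec (CommRingCat.of k))]
  [IsProper (X ↘ Spec (CommRingCat.of k))]

include k in
/-- A closed subset contained in an affine open of a proper scheme consists of finitely many closed points. -/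
theorem isClosed_singleton_of_subset_affine {U : X.Opens} (hU : IsAffineOpen U) {C : Set X} (hC : IsClosed C)
    (hCU : C ⊆ U) {x : X} (hx : x ∈ C) : IsClosed ({x} : Set X) := by
  let I := Scheme.IdealSheafData.vanishingIdeal ⟨C, hC⟩
  have hr : Set.range I.subschemeι = C := by
    rw [Scheme.IdealSheafData.range_subschemeι]; exact Scheme.IdealSheafData.coe_support_vanishingIdeal _
  haveI : IsAffine U := hU
  let l : I.subscheme ⟶ U.toScheme := IsOpenImmersion.lift U.ι I.subschemeι (by rw [hr, Scheme.Opens.range_ι]; exact hCU)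
  haveI : IsClosedImmersion (l ≫ U.ι) := by rw [IsOpenImmersion.lift_fac]; infer_instance
  haveI : IsClosedImmersion l := IsClosedImmersion.of_comp l U.ι
  haveI : IsAffine I.subscheme := isAffine_of_isAffineHom l
  let q := I.subschemeι ≫ X ↘ Spec (CommRingCat.of k)
  haveI : IsProper q := inferInstanceAs (IsProper (I.subschemeι ≫ X ↘ Spec (CommRingCat.of k)))
  haveI : IsFinite q := (IsFinite.iff_isProper_and_isAffineHom).2 ⟨inferInstance, inferInstance⟩
  have hfin : Finite I.subscheme := by
    refine Set.finite_univ_iff.1 ?_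
    have h : q ⁻¹' {(⊥ : PrimeSpectrum k)} = Set.univ := Set.eq_univ_of_forall fun z => Subsingleton.elim (α := PrimeSpectrum k) _ _
    rw [← h]
    exact q.finite_preimage_singleton _
  have hCfin : C.Finite := hr ▸ Set.finite_range _
  haveI : JacobsonSpace X := LocallyOfFiniteType.jacobsonSpace (X ↘ Spec (CommRingCat.of k))
  have hd : closure ({x} : Set X) ⊆ C := hC.closure_subset_iff.2 (Set.singleton_subset_iff.2 hx)
  have h1 : closure (closure ({x} : Set X) ∩ closedPoints X) = closure {x} :=
    closure_inter_closedPoints isClosed_closure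
  have h2 : IsClosed (closure ({x} : Set X) ∩ closedPoints X) := by
    rw [← Set.biUnion_of_singleton (closure ({x} : Set X) ∩ closedPoints X)]
    exact Set.Finite.isClosed_biUnion (hCfin.subset (Set.inter_subset_left.trans hd)) fun z hz => hz.2
  rw [h2.closure_eq] at h1
  exact (h1.ge (subset_closure rfl)).2

variable [Smooth (X ↘ Spec (CommRingCat.of k))] [GeometricallyConnected (X ↘ Spec (CommRingCat.of k))]

include k in
/-- Rigidity along a section with affine complement. -/
theorem subsingleton_range (hd : (2 : WithBot ℕ∞) ≤ topologicalKrullDim X) {Z : Scheme.{u}} [Nonempty Z]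
    (j : Z ⟶ X) {U : X.Opens} (hU : IsAffineOpen U) (hUj : (U : Set X) = (Set.range j)ᶜ)
    {T : Scheme.{u}} (f : X ⟶ T) (hf : IsClosedMap f) (hj : IsClosed (Set.range j))
    (hs : (Set.range (j ≫ f)).Subsingleton) : (Set.range f).Subsingleton := by
  haveI : IsIntegral X := isIntegral_of_geomConnected (k := k)
  haveI : IsLocallyNoetherian X := LocallyOfFiniteType.isLocallyNoetherian (X ↘ Spec (CommRingCat.of k))
  obtain ⟨z₀⟩ := ‹Nonempty Z›
  let y := (j ≫ f) z₀
  have hy : f '' Set.range j = {y} := by
    rw [← Set.range_comp]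
    exact hs.eq_singleton_of_mem ⟨z₀, rfl⟩
  have hyc : IsClosed ({y} : Set T) := hy ▸ hf _ hj
  obtain ⟨V, hV, hyV, -⟩ := exists_isAffineOpen_mem_and_subset (x := y) (U := (⊤ : T.Opens)) trivial
  haveI : IsAffine V := hV
  let W : X.Opens := ⊤ ⊓ f ⁻¹ᵁ V
  have hjW : Set.range j ⊆ W := by
    rintro _ ⟨z, rfl⟩
    refine ⟨trivial, ?_⟩
    show f (j z) ∈ V
    rw [show f (j z) = y from hy.le ⟨_, ⟨z, rfl⟩, rfl⟩]
    exact hyV
  have hWU : (W : Set X)ᶜ ⊆ U := by rw [hUj]; exact Set.compl_subset_compl.2 hjW
  have hsupp := Groth.L07.RefExtend.supportedOn_structureModule (X := X) (U := f ⁻¹ᵁ V) fun x hx =>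
    two_le_depth (k := k) hd x (isClosed_singleton_of_subset_affine (k := k) hU W.2.isClosed_compl hWU
      fun h => hx h.2)
  have hbij : Function.Bijective (X.presheaf.map (homOfLE (le_top : W ≤ ⊤)).op) := hsupp ⊤
  haveI : Nonempty X := ⟨j z₀⟩
  haveI := Groth.L21.Disc.geometricallyIntegral_of_smooth (X ↘ Spec (CommRingCat.of k))
  haveI := Groth.L08.Albanese.isIso_appTop_of_proper (X ↘ Spec (CommRingCat.of k))
  let e : CommRingCat.of k ⟶ Γ(W.toScheme, ⊤) := (Scheme.ΓSpecIso (CommRingCat.of k)).inv ≫
    (X ↘ Spec (CommRingCat.of k)).appTop ≫ X.presheaf.map (homOfLE (le_top : W ≤ ⊤)).op ≫ W.topIso.inv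
  have he : Function.Bijective e := by
    haveI : IsIso (X.presheaf.map (homOfLE (le_top : W ≤ ⊤)).op) := (ConcreteCategory.isIso_iff_bijective _).2 hbij
    exact ConcreteCategory.bijective_of_isIso e
  have hfld : IsField Γ(W.toScheme, ⊤) :=
    MulEquiv.isField (Field.toIsField k) (RingEquiv.ofBijective e.hom he).symm.toMulEquiv
  letI := hfld.toField
  let g : W.toScheme ⟶ V.toScheme := IsOpenImmersion.lift V.ι (W.ι ≫ f) (by
    rintro _ ⟨w, rfl⟩
    rw [Scheme.Opens.range_ι]
    exact w.2.2)
  have hg : ∀ w₁ w₂, g w₁ = g w₂ := fun w₁ w₂ => by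
    apply V.toScheme.isoSpec.hom.isOpenEmbedding.injective
    show V.toScheme.toSpecΓ (g w₁) = V.toScheme.toSpecΓ (g w₂)
    have h := Scheme.toSpecΓ_naturality g
    rw [← Scheme.Hom.comp_apply, ← Scheme.Hom.comp_apply, h]
    exact congrArg (Spec.map g.appTop) (Subsingleton.elim (α := PrimeSpectrum Γ(W.toScheme, ⊤)) _ _)
  have hW : ∀ w : X, w ∈ W → f w = y := by
    intro w hw
    have h0 : j z₀ ∈ W := hjW ⟨z₀, rfl⟩
    have h := congrArg V.ι (hg ⟨w, hw⟩ ⟨j z₀, h0⟩)
    rw [← Scheme.Hom.comp_apply, ← Scheme.Hom.comp_apply, IsOpenImmersion.lift_fac] at h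
    exact h
  have hdense : Dense (W : Set X) := W.2.dense ⟨j z₀, hjW ⟨z₀, rfl⟩⟩
  refine Set.subsingleton_singleton.anti (show Set.range f ⊆ {y} from ?_)
  rw [← Set.image_univ, ← hdense.closure_eq]
  exact (image_closure_subset_closure_image f.continuous).trans
    ((closure_mono (show f '' (W : Set X) ⊆ {y} from Set.image_subset_iff.2 fun w hw => hW w hw)).trans hyc.closure_eq.le)

end Groth.Agent.BertiniGen
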