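/-
A curve on an abelian variety not contained in the kernel of a non-trivial endomorphism.
-/
import Groth.Agent.L26.BertiniGen.Rigid
import Groth.Agent.L26.AV.Albanese
import Groth.Agent.L26.AV.Degree
import Groth.Agent.L03.SurfAdj.Embed
import Groth.Agent.L16.ProjSpace.AmpleIff

/-!
# Generating curves

Cutting an abelian variety repeatedly by hyperplanes gives a smooth curve on which only the trivial endomorphism
is constant.
-/

set_option autoImplicit false
set_option linter.style.haveILetI false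
set_option backward.isDefEq.respectTransparency false
set_option backward.isDefEq.respectTransparency.types false

universe u

open CategoryTheory CategoryTheory.Limits AlgebraicGeometry MonoidalCategory CartesianMonoidalCategory

open scoped MonObj

noncomputable section

namespace Groth.Agent.BertiniGen

variable {k : Type u} [Field k] (A : Over (Spec (CommRingCat.of k))) [GrpObj A]

/-- No non-trivial endomorphism is constant along `i`. -/
def IsGen {X : Scheme.{u}} (i : X ⟶ A.left) : Prop :=
  ∀ h : A ⟶ A, MonObj.one ≫ h = (MonObj.one : 𝟙_ _ ⟶ A) → (Set.range (i ≫ h.left)).Subsingleton → h = 1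

theorem isGen_id [IsProper A.hom] [GeometricallyIntegral A.hom] : IsGen A (𝟙 A.left) := by
  intro h h0 hs
  rw [Category.id_comp] at hs
  haveI : IsIntegral A.left := GeometricallyIntegral.isIntegral_of_subsingleton A.hom
  haveI : Nonempty A.left := inferInstance
  haveI := Groth.L08.Albanese.isIso_appTop_of_proper A.hom
  have h1 := Groth.Agent.AV.eq_const_of_singleton (ConcreteCategory.bijective_of_isIso A.hom.appTop) MonObj.one h hs
  rw [h1, h0]
  rfl

variable [Infinite k]

omit [GrpObj A] in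
/-- A subvariety of dimension at least two contains one of dimension one less with the same property. -/
theorem exists_step [GrpObj A] [IsProper A.hom] {N : ℕ} (ιA : A.left ⟶ CohB1.ProjSpace N k) [IsClosedImmersion ιA]
    (hιA : ιA ≫ CohB1.ProjSpace.toSpec N k = A.hom)
    {X : Scheme.{u}} (i : X ⟶ A.left) [IsClosedImmersion i] [Smooth (i ≫ A.hom)] [GeometricallyConnected (i ≫ A.hom)]
    (hd : (2 : WithBot ℕ∞) ≤ topologicalKrullDim X) (hi : IsGen A i) :
    ∃ (Z : Scheme.{u}) (i' : Z ⟶ A.left), IsClosedImmersion i' ∧ Smooth (i' ≫ A.hom) ∧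
      GeometricallyConnected (i' ≫ A.hom) ∧ topologicalKrullDim Z + 1 = topologicalKrullDim X ∧ IsGen A i' := by
  letI : X.Over (Spec (CommRingCat.of k)) := ⟨i ≫ A.hom⟩
  haveI : IsProper (X ↘ Spec (CommRingCat.of k)) := inferInstanceAs (IsProper (i ≫ A.hom))
  haveI : Smooth (X ↘ Spec (CommRingCat.of k)) := ‹Smooth (i ≫ A.hom)›
  haveI : GeometricallyConnected (X ↘ Spec (CommRingCat.of k)) := ‹GeometricallyConnected (i ≫ A.hom)›
  have hι : (i ≫ ιA) ≫ CohB1.ProjSpace.toSpec N k = X ↘ Spec (CommRingCat.of k) := by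
    rw [Category.assoc, hιA]
    rfl
  haveI : IsProper (CohB1.ProjSpace N k ↘ Spec (CommRingCat.of k)) :=
    inferInstanceAs (IsProper (CohB1.ProjSpace.toSpec N k))
  have hamp : CohB1.IsAmple (Twist.twistProjSpace N k 1) := by
    refine Groth.L16.ProjTwist.isAmple_twist (𝒜 := CohB1.polyGrading N k) (d := 1) one_pos
      (fun i : Fin (N + 1) => ⟨MvPolynomial.X i, Groth.L16.ProjSpace.X_mem N k i⟩) ?_
    exact top_le_iff.1 fun x _ => TopologicalSpace.Opens.mem_iSup.2 (Groth.L16.ProjSpace.exists_mem_basicOpen_X N k x)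
  obtain ⟨Z, j, hj, hsm, hgc, hdim, U, hU, hUj⟩ := (hyperplanes (i ≫ ιA) hι).exists_section
    (Groth.L18.Ample.isAmple_pullback_of_isAffineHom (i ≫ ιA) hamp) hd
  haveI := hj
  haveI := hgc
  haveI : Nonempty Z := by
    obtain ⟨z, -⟩ := (j ≫ X ↘ Spec (CommRingCat.of k)).surjective (⊥ : PrimeSpectrum k)
    exact ⟨z⟩
  refine ⟨Z, j ≫ i, inferInstance, ?_, ?_, hdim, fun h h0 hs => hi h h0 ?_⟩
  · rw [Category.assoc]; exact hsm
  · rw [Category.assoc]; exact hgc
  · haveI : IsProper h.left := by
      haveI : IsProper (h.left ≫ A.hom) := by rw [Over.w]; infer_instance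
      exact IsProper.of_comp h.left A.hom
    exact subsingleton_range (k := k) hd j hU hUj (i ≫ h.left) (i ≫ h.left).isClosedMap j.isClosedEmbedding.isClosed_range
      (by rwa [← Category.assoc])

/-- A smooth geometrically connected curve on which only the trivial endomorphism is constant. -/
theorem exists_curve [IsProper A.hom] [Smooth A.hom] [GeometricallyIntegral A.hom]
    (hA : 1 ≤ topologicalKrullDim A.left) :
    ∃ (C : Scheme.{u}) (i : C ⟶ A.left), IsClosedImmersion i ∧ Smooth (i ≫ A.hom) ∧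
      GeometricallyConnected (i ≫ A.hom) ∧ topologicalKrullDim C = 1 ∧ IsGen A i := by
  letI : A.left.Over (Spec (CommRingCat.of k)) := ⟨A.hom⟩
  haveI : IsProper (A.left ↘ Spec (CommRingCat.of k)) := ‹IsProper A.hom›
  obtain ⟨L, hL⟩ := Groth.Agent.AV.Degree.exists_isAmple A
  obtain ⟨N, ιA, hιc, hιA⟩ := Groth.L03.SurfAdj.exists_proj k hL
  haveI := hιc
  suffices H : ∀ (d : ℕ) (X : Scheme.{u}) (i : X ⟶ A.left), IsClosedImmersion i → Smooth (i ≫ A.hom) →
      GeometricallyConnected (i ≫ A.hom) → topologicalKrullDim X = ((d + 1 : ℕ) : WithBot ℕ∞) → IsGen A i →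
      ∃ (C : Scheme.{u}) (i : C ⟶ A.left), IsClosedImmersion i ∧ Smooth (i ≫ A.hom) ∧
        GeometricallyConnected (i ≫ A.hom) ∧ topologicalKrullDim C = 1 ∧ IsGen A i by
    haveI : IsIntegral A.left := GeometricallyIntegral.isIntegral_of_subsingleton A.hom
    obtain ⟨g, hg, -⟩ := Groth.L22.SchemeDim.exists_dim_eq_trdeg k A.left
    rw [hg] at hA
    obtain ⟨d, rfl⟩ : ∃ d, g = d + 1 := Nat.exists_eq_add_of_le' (by exact_mod_cast hA)
    refine H d A.left (𝟙 _) inferInstance ?_ ?_ hg (isGen_id A)
    · rw [Category.id_comp]; infer_instance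
    · rw [Category.id_comp]; exact Groth.Agent.AV.Isogeny.geometricallyConnected A.hom
  intro d
  induction d with
  | zero => exact fun X i h1 h2 h3 h4 h5 => ⟨X, i, h1, h2, h3, by simpa using h4, h5⟩
  | succ d ih =>
    intro X i hc hsm hgc hdim hgen
    haveI := hc
    haveI := hsm
    haveI := hgc
    obtain ⟨Z, j, hjc, hjs, hjg, hjd, hjgen⟩ := exists_step A ιA hιA i
      (by rw [hdim]; exact_mod_cast (by omega : 2 ≤ d + 1 + 1)) hgen
    haveI := hjc
    haveI := hjs
    haveI := hjg
    letI : Z.Over (Spec (CommRingCat.of k)) := ⟨j ≫ A.hom⟩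
    haveI : IsProper (Z ↘ Spec (CommRingCat.of k)) := inferInstanceAs (IsProper (j ≫ A.hom))
    haveI : Smooth (Z ↘ Spec (CommRingCat.of k)) := hjs
    haveI : GeometricallyConnected (Z ↘ Spec (CommRingCat.of k)) := hjg
    haveI : IsIntegral Z := isIntegral_of_geomConnected (k := k)
    obtain ⟨n, hn, -⟩ := Groth.L22.SchemeDim.exists_dim_eq_trdeg k Z
    rw [hn, hdim] at hjd
    refine ih Z j hjc hjs hjg ?_ hjgen
    rw [hn]
    have : n + 1 = d + 1 + 1 := by exact_mod_cast hjd
    rw [Nat.succ.inj this]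

end Groth.Agent.BertiniGen
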